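import Mathlib.AlgebraicGeometry.AlgClosed.Basic
import Mathlib.AlgebraicGeometry.PullbackCarrier
import Mathlib.AlgebraicGeometry.ResidueField
import Mathlib.AlgebraicGeometry.Morphisms.FiniteType
import Mathlib.RingTheory.AlgebraicIndependent.Adjoin
import Mathlib.RingTheory.AlgebraicIndependent.TranscendenceBasis
import Mathlib.FieldTheory.FinTrdeg
import Mathlib.FieldTheory.IsAlgClosed.Basic
import Mathlib.RingTheory.RingHom.EssFiniteType

/-!
# Points with values in algebraically closed fields
-/

universe u

open AlgebraicGeometry CategoryTheory CategoryTheory.Limits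

namespace GrothLib.SchPoints

variable {X Y : Scheme.{u}}

/-- A nonempty scheme locally of finite type over an algebraically closed field has a rational
point. -/
lemma exists_section {Ω : Type u} [Field Ω] [IsAlgClosed Ω]
    (p : X ⟶ Spec (CommRingCat.of Ω)) [LocallyOfFiniteType p] [Nonempty X] :
    ∃ s : Spec (CommRingCat.of Ω) ⟶ X, s ≫ p = 𝟙 _ := by
  have : JacobsonSpace X := LocallyOfFiniteType.jacobsonSpace p
  obtain ⟨z, hz⟩ : (closedPoints (X : Type u)).Nonempty :=
    closure_nonempty_iff.mp (by rw [closure_closedPoints]; exact Set.univ_nonempty)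
  exact ⟨pointOfClosedPoint p z hz, pointOfClosedPoint_comp p z hz⟩

/-- Points with values in an algebraically closed field lift along surjective morphisms locally of
finite type. -/
lemma exists_lift (f : X ⟶ Y) [LocallyOfFiniteType f] {Ω : Type u} [Field Ω] [IsAlgClosed Ω]
    (y : Spec (CommRingCat.of Ω) ⟶ Y) (h : y (IsLocalRing.closedPoint Ω) ∈ Set.range f) :
    ∃ x : Spec (CommRingCat.of Ω) ⟶ X, x ≫ f = y := by
  obtain ⟨a, ha⟩ := h
  obtain ⟨z, -, -⟩ := Scheme.Pullback.exists_preimage_pullback (f := f) (g := y) a _ ha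
  have : Nonempty ↥(pullback f y) := ⟨z⟩
  obtain ⟨s, hs⟩ := exists_section (pullback.snd f y)
  exact ⟨s ≫ pullback.fst f y, by rw [Category.assoc, pullback.condition, reassoc_of% hs]⟩

/-- A finitely generated field extension of `K` embeds into every algebraically closed extension
of infinite transcendence degree. -/
lemma exists_algHom_of_essFiniteType {K L Ω : Type u} [Field K] [Field L] [Field Ω] [Algebra K L]
    [Algebra K Ω] [IsAlgClosed Ω] [Algebra.EssFiniteType K L]
    (t : ℕ → Ω) (ht : AlgebraicIndependent K t) : Nonempty (L →ₐ[K] Ω) := by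
  obtain ⟨ι, x, hx⟩ := exists_isTranscendenceBasis' K L
  have : Finite ι := finite_of_isTranscendenceBasis hx
  obtain ⟨n, ⟨e⟩⟩ := Finite.exists_equiv_fin ι
  have ht' : AlgebraicIndependent K (fun i : ι => t (e i : ℕ)) :=
    ht.comp (fun i : ι => (e i : ℕ)) (Fin.val_injective.comp e.injective)
  let M := IntermediateField.adjoin K (Set.range x)
  let φ : M →ₐ[K] Ω := ((IntermediateField.adjoin K (Set.range fun i : ι => t (e i : ℕ))).val.comp
    ht'.aevalEquivField.toAlgHom).comp hx.1.aevalEquivField.symm.toAlgHom
  let : Algebra M Ω := φ.toRingHom.toAlgebra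
  have : IsScalarTower K M Ω := IsScalarTower.of_algebraMap_eq fun k => (φ.commutes k).symm
  have : Algebra.IsAlgebraic M L := hx.isAlgebraic_field
  exact ⟨(IsAlgClosed.lift : L →ₐ[M] Ω).restrictScalars K⟩

/-- The residue fields of a scheme locally of finite type over a field are finitely generated. -/
lemma essFiniteType_residueField {K : Type u} [Field K] (p : X ⟶ Spec (CommRingCat.of K))
    [LocallyOfFiniteType p] (x : X) :
    (Spec.preimage (X.fromSpecResidueField x ≫ p)).hom.EssFiniteType := by
  have h : X.fromSpecResidueField x ≫ p = Spec.map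
      (CommRingCat.ofHom (algebraMap K (p x).asIdeal.ResidueField) ≫
        (Scheme.Spec.residueFieldIso (.of K) (p x)).inv ≫ p.residueFieldMap x) := by
    rw [Spec.map_comp, Spec.map_comp, Category.assoc, Scheme.Spec.map_residueFieldIso_inv_eq_fromSpecResidueField,
      Scheme.Hom.SpecMap_residueFieldMap_fromSpecResidueField]
  rw [h, Spec.preimage_map]
  simp only [CommRingCat.hom_comp]
  refine RingHom.EssFiniteType.comp ?_ (RingHom.EssFiniteType.comp ?_ ?_)
  · exact RingHom.essFiniteType_algebraMap.mpr inferInstance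
  · exact (RingHom.FiniteType.of_surjective _
      (Scheme.Spec.residueFieldIso (.of K) (p x)).commRingCatIsoToRingEquiv.symm.surjective).essFiniteType
  · exact RingHom.EssFiniteType.residueFieldMap (LocallyOfFiniteType.stalkMap p x)

/-- Every point of a scheme locally of finite type over `K` underlies an `Ω`-valued point over
`K`. -/
lemma exists_point {K Ω : Type u} [Field K] [Field Ω] [IsAlgClosed Ω] [Algebra K Ω]
    (t : ℕ → Ω) (ht : AlgebraicIndependent K t) (p : X ⟶ Spec (CommRingCat.of K))
    [LocallyOfFiniteType p] (x : X) :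
    ∃ s : Spec (CommRingCat.of Ω) ⟶ X, s ≫ p = Spec.map (CommRingCat.ofHom (algebraMap K Ω)) ∧
      s (IsLocalRing.closedPoint Ω) = x := by
  let φ := Spec.preimage (X.fromSpecResidueField x ≫ p)
  let : Algebra K (X.residueField x) := φ.hom.toAlgebra
  have : Algebra.EssFiniteType K (X.residueField x) :=
    RingHom.essFiniteType_algebraMap.mp (essFiniteType_residueField p x)
  obtain ⟨ψ⟩ := exists_algHom_of_essFiniteType (L := X.residueField x) t ht
  refine ⟨Spec.map (CommRingCat.ofHom (S := Ω) ψ.toRingHom) ≫ X.fromSpecResidueField x, ?_, ?_⟩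
  · rw [Category.assoc, ← Spec.map_preimage (X.fromSpecResidueField x ≫ p), ← Spec.map_comp]
    congr 1
    ext k
    exact ψ.commutes k
  · rw [Scheme.Hom.comp_apply, Scheme.fromSpecResidueField_apply]

end GrothLib.SchPoints
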